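import Mathlib.SetTheory.Cardinal.Finite
import Cfsg.Prelude.Def_Classification2
import Cfsg.Agent.Prune
set_option linter.all false
prune_inst 0x7f00000000000000000000000000000000000000000000000000000000000000000000000000000000000000000000000000000000000000000000000000000000000000000000000000000000000000003fffffffffffffffffffffffffffbeffbdffffffff
open scoped Cfsg.Agent.FastGrp

/-!
# Sims conjecture: the sporadic groups have bounded order (helper36, task 454 for S3386)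
-/

set_option autoImplicit false

namespace Cfsg.Agent.H36.Sims.Spor

open Cfsg

universe u

/-- the orders of the finite groups with `P` are bounded -/
def Bdd (P : ∀ (G : Type u) [Group G], Prop) : Prop :=
  ∃ F : ℕ, ∀ (G : Type u) [Group G] [Finite G], P G → Nat.card G ≤ F

theorem bdd_iso (X : Type) [Group X] : Bdd.{u} fun G _ => Nonempty (G ≃* X) :=
  ⟨Nat.card X, fun _ _ _ ⟨e⟩ => (Nat.card_congr e.toEquiv).le⟩

theorem Bdd.or {P Q : ∀ (G : Type u) [Group G], Prop} (hP : Bdd P) (hQ : Bdd Q) : Bdd fun G _ => P G ∨ Q G := by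
  obtain ⟨a, ha⟩ := hP
  obtain ⟨b, hb⟩ := hQ
  refine ⟨max a b, fun G _ _ h => ?_⟩
  rcases h with h | h
  · exact (ha G h).trans (le_max_left _ _)
  · exact (hb G h).trans (le_max_right _ _)

theorem bdd_J3 : Bdd.{u} fun G _ => Spor.IsoJ3 G := by
  refine ⟨4 ^ (Nat.card Spor.F9 * Nat.card Spor.F9), fun G _ _ h => ?_⟩
  obtain ⟨F, _, _, ω, hF, -, ⟨e⟩⟩ := h
  have h1 : Nat.card G = Nat.card (Spor.J3 F ω) := Nat.card_congr e.toEquiv
  have h2 : Nat.card (Spor.J3 F ω) ≤ Nat.card (Spor.threeJ3 F ω) :=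
    Nat.card_le_card_of_surjective _ (QuotientGroup.mk'_surjective (Subgroup.center (Spor.threeJ3 F ω)))
  have h3 : Nat.card (Spor.threeJ3 F ω) ≤ Nat.card (Matrix.GeneralLinearGroup Spor.F9 F) :=
    Nat.card_le_card_of_injective _ (Subgroup.subtype_injective (Spor.threeJ3 F ω))
  have h4 : Nat.card (Matrix.GeneralLinearGroup Spor.F9 F) ≤ Nat.card (Matrix Spor.F9 Spor.F9 F) :=
    Nat.card_le_card_of_injective _ Units.val_injective
  have h5 : Nat.card (Matrix Spor.F9 Spor.F9 F) = 4 ^ (Nat.card Spor.F9 * Nat.card Spor.F9) := by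
    rw [show Matrix Spor.F9 Spor.F9 F = (Spor.F9 → Spor.F9 → F) from rfl, Nat.card_fun, Nat.card_fun,
      Nat.card_eq_fintype_card (α := F), hF, pow_mul]
  rw [h1]
  exact h2.trans (h3.trans (h4.trans h5.le))

theorem bdd_spor : Bdd.{u} fun G _ => IsSporadicGroup G := by
  unfold IsSporadicGroup
  refine Bdd.or (bdd_iso _) (Bdd.or (bdd_iso _) (Bdd.or (bdd_iso _) (Bdd.or (bdd_iso _) (Bdd.or (bdd_iso _) (Bdd.or
    (bdd_iso _) (Bdd.or (bdd_iso _) (Bdd.or bdd_J3 (Bdd.or (bdd_iso _) (Bdd.or (bdd_iso _) (Bdd.or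
    (bdd_iso _) (Bdd.or (bdd_iso _) (Bdd.or (bdd_iso _) (Bdd.or (bdd_iso _) (Bdd.or (bdd_iso _) (Bdd.or
    (bdd_iso _) (Bdd.or (bdd_iso _) (Bdd.or (bdd_iso _) (Bdd.or (bdd_iso _) (Bdd.or (bdd_iso _) (Bdd.or
    (bdd_iso _) (Bdd.or (bdd_iso _) (Bdd.or (bdd_iso _) (Bdd.or (bdd_iso _) (Bdd.or (bdd_iso _)
    (bdd_iso _)))))))))))))))))))))))))

theorem spor_bound : ∃ F : ℕ, ∀ {G : Type u} [Group G] [Finite G],
    IsSporadicGroup G ∨ Lie.IsoTits G → Nat.card G ≤ F := by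
  have h1 : Bdd.{u} fun G _ => Lie.IsoTits G :=
    ⟨Nat.card Lie.TitsGroup, fun _ _ _ ⟨e⟩ => (Nat.card_congr e.toEquiv).le⟩
  obtain ⟨F, hF⟩ := bdd_spor.{u}.or h1
  exact ⟨F, fun {G} _ _ h => hF G h⟩

end Cfsg.Agent.H36.Sims.Spor
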